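import Mathlib

/-! # `R[x, y]` over `R[x², y²]`, and derivations in characteristic two -/

namespace Groth.Agent.KumLib

open MvPolynomial

variable {R : Type*} [CommRing R]

local notation "P2" => MvPolynomial (Fin 2) R

/-- The inclusion of `R[x², y²]`. -/
noncomputable abbrev sq : P2 →ₐ[R] P2 := expand 2

theorem coeff_sq_mul (a : P2) (e m : Fin 2 →₀ ℕ) (he : ∀ i, e i ≤ 1) :
    coeff m (sq a * monomial e (1 : R)) =
      if ∀ i, m i % 2 = e i then coeff (Finsupp.equivFunOnFinite.symm fun i => m i / 2) a else 0 := by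
  rw [coeff_mul_monomial', mul_one]
  split_ifs with hle h h
  · have : m - e = 2 • Finsupp.equivFunOnFinite.symm (fun i => m i / 2) := by
      ext i
      have := h i
      have := hle i
      simp
      omega
    rw [this, coeff_expand_smul 2 two_ne_zero]
  · push Not at h
    obtain ⟨i, hi⟩ := h
    have hnd : ¬ 2 ∣ (m - e) i := by
      have := hle i
      have := he i
      simp
      omega
    exact coeff_expand_of_not_dvd a hnd
  · exfalso
    refine hle fun i => ?_
    have := h i
    omega
  · rfl

theorem independent (a b c d : P2) (h : sq a + sq b * X 0 + sq c * X 1 + sq d * (X 0 * X 1) = 0) :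
    a = 0 ∧ b = 0 ∧ c = 0 ∧ d = 0 := by
  let e : ℕ → ℕ → (Fin 2 →₀ ℕ) := fun u v => Finsupp.equivFunOnFinite.symm ![u, v]
  have e00 : (monomial (e 0 0) (1 : R) : P2) = 1 := by
    rw [show e 0 0 = 0 from Finsupp.ext fun i => by fin_cases i <;> rfl]; rfl
  have hX : ∀ u v, (monomial (e u v) (1 : R) : P2) = X 0 ^ u * X 1 ^ v := fun u v => by
    simp only [X_pow_eq_monomial, monomial_mul, mul_one]
    refine congrArg (fun z => monomial z (1 : R)) (Finsupp.ext fun i => ?_)
    fin_cases i <;> simp [e]
  have h' : sq a * monomial (e 0 0) (1 : R) + sq b * monomial (e 1 0) 1 + sq c * monomial (e 0 1) 1 +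
      sq d * monomial (e 1 1) 1 = 0 := by
    simpa [e00, hX] using h
  have key : ∀ u v, u ≤ 1 → v ≤ 1 → ∀ n : Fin 2 →₀ ℕ,
      (if u = 0 ∧ v = 0 then coeff n a else 0) + (if u = 1 ∧ v = 0 then coeff n b else 0) +
      (if u = 0 ∧ v = 1 then coeff n c else 0) + (if u = 1 ∧ v = 1 then coeff n d else 0) = 0 := by
    intro u v hu hv n
    have h1 := congrArg (coeff (Finsupp.equivFunOnFinite.symm ![2 * n 0 + u, 2 * n 1 + v])) h'
    simp only [coeff_add, coeff_zero] at h1
    rw [coeff_sq_mul _ _ _ (by intro i; fin_cases i <;> simp [e]), coeff_sq_mul _ _ _ (by intro i; fin_cases i <;> simp [e]),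
      coeff_sq_mul _ _ _ (by intro i; fin_cases i <;> simp [e]), coeff_sq_mul _ _ _ (by intro i; fin_cases i <;> simp [e])] at h1
    have hn : (Finsupp.equivFunOnFinite.symm fun i =>
        (Finsupp.equivFunOnFinite.symm ![2 * n 0 + u, 2 * n 1 + v] : Fin 2 →₀ ℕ) i / 2) = n := by
      ext i; fin_cases i <;> simp <;> omega
    rw [hn] at h1
    have hp : ∀ s t, s ≤ 1 → t ≤ 1 → ((∀ i, (Finsupp.equivFunOnFinite.symm ![2 * n 0 + u, 2 * n 1 + v] : Fin 2 →₀ ℕ) i % 2 =
        e s t i) ↔ (u = s ∧ v = t)) := fun s t hs ht => by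
      simp [e, Fin.forall_fin_two]; omega
    simpa only [hp 0 0 (by omega) (by omega), hp 1 0 (by omega) (by omega), hp 0 1 (by omega) (by omega),
      hp 1 1 (by omega) (by omega)] using h1
  refine ⟨?_, ?_, ?_, ?_⟩ <;> refine MvPolynomial.ext _ _ fun n => ?_
  · simpa using key 0 0 (by omega) (by omega) n
  · simpa using key 1 0 (by omega) (by omega) n
  · simpa using key 0 1 (by omega) (by omega) n
  · simpa using key 1 1 (by omega) (by omega) n

theorem spanning (p : P2) : ∃ a b c d : P2, p = sq a + sq b * X 0 + sq c * X 1 + sq d * (X 0 * X 1) := by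
  induction p using MvPolynomial.induction_on with
  | C r => exact ⟨C r, 0, 0, 0, by simp [sq]⟩
  | add p q hp hq =>
    obtain ⟨a, b, c, d, rfl⟩ := hp
    obtain ⟨a', b', c', d', rfl⟩ := hq
    exact ⟨a + a', b + b', c + c', d + d', by simp only [map_add]; ring⟩
  | mul_X p i hp =>
    obtain ⟨a, b, c, d, rfl⟩ := hp
    have h0 : sq (X 0 : P2) = X 0 ^ 2 := expand_X 2 0
    have h1 : sq (X 1 : P2) = X 1 ^ 2 := expand_X 2 1
    fin_cases i
    · exact ⟨b * X 0, a, d * X 0, c, by simp only [map_mul, h0, Fin.zero_eta]; ring⟩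
    · exact ⟨c * X 1, d * X 1, a, b, by simp only [map_mul, h1, Fin.mk_one]; ring⟩

theorem derivation_sq [CharP R 2] (D : Derivation R P2 P2) (a : P2) : D (sq a) = 0 := by
  induction a using MvPolynomial.induction_on with
  | C r => simp [sq]
  | add p q hp hq => rw [map_add, map_add, hp, hq, add_zero]
  | mul_X p i hp =>
    rw [map_mul, D.leibniz, hp, smul_zero, add_zero, show sq (X i : P2) = X i * X i by simp [sq, pow_two],
      D.leibniz, CharTwo.add_self_eq_zero, smul_zero]

/-- The element `z`. -/
noncomputable def gen (u v L S : P2) (τ : R) : P2 := sq S * u + sq L * v + C τ * (u * v)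

/-- The three generators. -/
noncomputable def gens (z : P2) : MvPolynomial (Fin 3) R →ₐ[R] P2 := aeval ![X 0 ^ 2, X 1 ^ 2, z]

theorem gens_rename (z : P2) (a : P2) : gens z (rename Fin.castSucc a) = sq a := by
  rw [gens, aeval_rename]
  show aeval _ a = expand 2 a
  refine congrArg (fun f : P2 →ₐ[R] P2 => f a) (algHom_ext fun i => ?_)
  rw [aeval_X, expand_X]
  fin_cases i <;> rfl

theorem gens_X2 (z : P2) : gens z (X 2) = z := by
  rw [gens, aeval_X]; rfl

theorem mem_range_gens (z a d : P2) : sq a + sq d * z ∈ (gens z).range :=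
  ⟨rename Fin.castSucc a + rename Fin.castSucc d * X 2, by simp [gens_rename, gens_X2]⟩

/-- Kernel of a derivation of the shape considered. -/
theorem derivation_kernel [CharP R 2] (D : Derivation R P2 P2) (u v L S M : P2) (τ : R) (hτ : IsUnit τ)
    (hind : ∀ a b c d : P2, sq a + sq b * u + sq c * v + sq d * (u * v) = 0 → a = 0 ∧ b = 0 ∧ c = 0 ∧ d = 0)
    (hM : ∀ f, M * f = 0 → f = 0)
    (hu : D u = M * (C τ * u + sq L)) (hv : D v = M * (C τ * v + sq S))
    (a b c d : P2) :
    D (sq a + sq b * u + sq c * v + sq d * (u * v)) = 0 ↔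
      sq a + sq b * u + sq c * v + sq d * (u * v) ∈ (gens (gen u v L S τ)).range := by
  have htwo : (2 : P2) = 0 := CharTwo.two_eq_zero
  have hD : D (sq a + sq b * u + sq c * v + sq d * (u * v)) =
      M * (sq (b * L + c * S) + sq (b * C τ + d * S) * u + sq (c * C τ + d * L) * v + sq 0 * (u * v)) := by
    simp only [map_add, D.leibniz, derivation_sq, smul_eq_mul, mul_zero, hu, hv, map_mul, map_zero, sq, expand_C]
    linear_combination (M * expand 2 d * C τ * u * v) * htwo
  constructor
  · intro h
    obtain ⟨-, h1, h2, -⟩ := hind _ _ _ _ (hM _ (hD ▸ h))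
    obtain ⟨t, ht⟩ := hτ.exists_right_inv
    have hC : (C τ : P2) * C t = 1 := by rw [← map_mul, ht, map_one]
    have hb : b = d * C t * S := by linear_combination C t * h1 - d * C t * S * htwo - b * hC
    have hc : c = d * C t * L := by linear_combination C t * h2 - d * C t * L * htwo - c * hC
    refine (show sq a + sq b * u + sq c * v + sq d * (u * v) = sq a + sq (d * C t) * gen u v L S τ from ?_) ▸
      mem_range_gens _ a (d * C t)
    rw [hb, hc, gen]
    simp only [map_mul, sq, expand_C]
    linear_combination -(expand 2 d * (u * v)) * hC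
  · rintro ⟨f, hf⟩
    rw [← hf]
    change D (gens (gen u v L S τ) f) = 0
    have hz : D (gen u v L S τ) = 0 := by
      simp only [gen, map_add, D.leibniz, derivation_sq, smul_eq_mul, mul_zero, hu, hv,
        show D (C τ) = 0 from derivation_C D τ]
      linear_combination (M * (C τ * sq S * u + sq S * sq L + C τ * sq L * v + C τ * C τ * u * v)) * htwo
    have hsq : ∀ i : Fin 2, D (X i ^ 2) = 0 := fun i => by
      rw [← expand_X 2 i]; exact derivation_sq D _
    clear hf hD
    induction f using MvPolynomial.induction_on with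
    | C r => simp [gens, derivation_C]
    | add p q hp hq => rw [map_add, map_add, hp, hq, add_zero]
    | mul_X p i hp =>
      have hi : D (gens (gen u v L S τ) (X i)) = 0 := by
        rw [gens, aeval_X]
        fin_cases i
        · exact hsq 0
        · exact hsq 1
        · exact hz
      rw [map_mul, D.leibniz, hp, hi, smul_zero, smul_zero, add_zero]

/-- The relation satisfied by the three generators spans all relations. -/
theorem kernel_eq (z : P2) (G : P2) (hz : z ^ 2 = sq G)
    (hind : ∀ a b : P2, sq a + sq b * z = 0 → a = 0 ∧ b = 0) :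
    RingHom.ker (gens z) = Ideal.span {X 2 ^ 2 - rename Fin.castSucc G} := by
  set g : MvPolynomial (Fin 3) R := X 2 ^ 2 - rename Fin.castSucc G
  have hg : gens z g = 0 := by simp [g, gens_rename, gens_X2, hz]
  have hdiv : ∀ f : MvPolynomial (Fin 3) R, ∃ r₀ r₁ : P2,
      f - (rename Fin.castSucc r₀ + rename Fin.castSucc r₁ * X 2) ∈ Ideal.span {g} := by
    intro f
    induction f using MvPolynomial.induction_on with
    | C r => exact ⟨C r, 0, by simp⟩
    | add p q hp hq =>
      obtain ⟨a, b, h⟩ := hp
      obtain ⟨a', b', h'⟩ := hq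
      refine ⟨a + a', b + b', ?_⟩
      convert add_mem h h' using 1
      simp only [map_add]; ring
    | mul_X p i hp =>
      obtain ⟨a, b, h⟩ := hp
      fin_cases i
      · refine ⟨a * X 0, b * X 0, ?_⟩
        convert Ideal.mul_mem_right (X 0) _ h using 1
        simp only [map_mul, rename_X, Fin.castSucc_zero, Fin.zero_eta]; ring
      · refine ⟨a * X 1, b * X 1, ?_⟩
        convert Ideal.mul_mem_right (X 1) _ h using 1
        simp only [map_mul, rename_X, Fin.castSucc_one, Fin.mk_one]; ring
      · refine ⟨b * G, a, ?_⟩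
        convert add_mem (Ideal.mul_mem_right (X 2) _ h)
          (Ideal.mul_mem_left _ (rename Fin.castSucc b) (Ideal.mem_span_singleton_self g)) using 1
        simp only [map_mul, g, show ((⟨2, by omega⟩ : Fin 3)) = 2 from rfl]; ring
  refine le_antisymm (fun f hf => ?_) ((Ideal.span_singleton_le_iff_mem _).mpr hg)
  obtain ⟨a, b, h⟩ := hdiv f
  obtain ⟨k, hk⟩ := Ideal.mem_span_singleton'.mp h
  have h0 := congrArg (gens z) hk
  rw [map_mul, hg, mul_zero, map_sub, RingHom.mem_ker.mp hf, zero_sub, map_add, map_mul, gens_rename, gens_rename,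
    gens_X2, eq_comm, neg_eq_zero] at h0
  obtain ⟨rfl, rfl⟩ := hind a b h0
  simpa using h

end Groth.Agent.KumLib
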